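import Mathlib
import Cfsg.Agent.Lib.Helper5.PCore
import Cfsg.Agent.Lib.Helper5.Coprime

set_option autoImplicit false
open scoped commutatorElement

namespace Cfsg.Agent.Lib.Helper5.CharP

open Cfsg.Agent.Lib.Helper5.PCore Cfsg.Agent.Lib.Helper5.Coprime

theorem pelem_of_mem_pCore {G : Type*} [Group G] {p : ℕ} (c : G) (hc : c ∈ Cfsg.pCore p G) :
    ∃ a : ℕ, c ^ p ^ a = 1 := by
  obtain ⟨a, ha⟩ := pCore_isPGroup p G ⟨c, hc⟩
  exact ⟨a, by simpa using congrArg Subtype.val ha⟩

theorem charp_of_normalized {G : Type*} [Group G] [Finite G] {p : ℕ} [Fact p.Prime]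
    (hG : Subgroup.centralizer (Cfsg.pCore p G : Set G) ≤ Cfsg.pCore p G) (L : Subgroup G)
    (hL : Cfsg.pCore p G ≤ Subgroup.normalizer (L : Set G)) :
    Subgroup.centralizer (Cfsg.pCore p ↥L : Set ↥L) ≤ Cfsg.pCore p ↥L := by
  have hLn : (Cfsg.pCore p ↥L).Normal := pCore_normal_thm p ↥L
  have hCn : (Subgroup.centralizer (Cfsg.pCore p ↥L : Set ↥L)).Normal := Subgroup.normal_centralizer
  apply le_pCore _ hCn
  apply isPGroup_of_pprime_trivial
  intro y hy m hm hym
  have hQn : (Cfsg.pCore p G).Normal := pCore_normal_thm p G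
  have hym' : (y : G) ^ m = 1 := by
    have h1 := congrArg Subtype.val hym
    simpa using h1
  have hcomm : ∀ r ∈ Cfsg.pCore p G, r * (y : G) = (y : G) * r := by
    intro r hr
    have hcQ : ⁅r, (y : G)⁆ ∈ Cfsg.pCore p G := by
      have h1 : (y : G) * r⁻¹ * (y : G)⁻¹ ∈ Cfsg.pCore p G :=
        hQn.conj_mem _ (Subgroup.inv_mem _ hr) _
      have h2 : ⁅r, (y : G)⁆ = r * ((y : G) * r⁻¹ * (y : G)⁻¹) := by
        rw [commutatorElement_def]
        group
      rw [h2]
      exact Subgroup.mul_mem _ hr h1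
    have hcL : ⁅r, (y : G)⁆ ∈ L := by
      have h1 : r * (y : G) * r⁻¹ ∈ L := (Subgroup.le_normalizer_iff.mp hL) r hr y y.2
      have h2 : ⁅r, (y : G)⁆ = (r * (y : G) * r⁻¹) * (y : G)⁻¹ := by
        rw [commutatorElement_def]
      rw [h2]
      exact L.mul_mem h1 (L.inv_mem y.2)
    have hc' : (⟨⁅r, (y : G)⁆, hcL⟩ : L) ∈ Cfsg.pCore p ↥L := by
      have h3 : ((Cfsg.pCore p G).subgroupOf L).Normal := hQn.subgroupOf L
      have h4 : IsPGroup p ((Cfsg.pCore p G).subgroupOf L) := (pCore_isPGroup p G).comap_subtype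
      exact le_pCore _ h3 h4 (Subgroup.mem_subgroupOf.mpr hcQ)
    apply commute_of_step (y : G) r m hym'
    · have h5 := (Subgroup.mem_centralizer_iff.mp hy) _ hc'
      have h6 := congrArg Subtype.val h5
      simpa using h6
    · intro hcm
      obtain ⟨a, ha⟩ := pelem_of_mem_pCore _ hcQ
      exact eq_one_of_pow_of_pow _ a m hm ha hcm
  have hyC : (y : G) ∈ Subgroup.centralizer (Cfsg.pCore p G : Set G) := by
    rw [Subgroup.mem_centralizer_iff]
    intro r hr
    exact hcomm r hr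
  obtain ⟨a, ha⟩ := pelem_of_mem_pCore _ (hG hyC)
  have h7 := eq_one_of_pow_of_pow (y : G) a m hm ha hym'
  ext
  simpa using h7

theorem pCore_map_le {A B : Type*} [Group A] [Group B] {p : ℕ} (e : A ≃* B) :
    (Cfsg.pCore p A).map e.toMonoidHom ≤ Cfsg.pCore p B := by
  have hAn : (Cfsg.pCore p A).Normal := pCore_normal_thm p A
  apply le_pCore
  · exact hAn.map e.toMonoidHom e.surjective
  · exact (pCore_isPGroup p A).map e.toMonoidHom

theorem pCore_map_eq {A B : Type*} [Group A] [Group B] {p : ℕ} (e : A ≃* B) :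
    (Cfsg.pCore p A).map e.toMonoidHom = Cfsg.pCore p B := by
  apply le_antisymm (pCore_map_le e)
  intro b hb
  have h1 := pCore_map_le (p := p) e.symm ⟨b, hb, rfl⟩
  exact ⟨e.symm b, h1, by simp⟩

theorem charp_of_equiv {A B : Type*} [Group A] [Group B] {p : ℕ} (e : A ≃* B)
    (hA : Subgroup.centralizer (Cfsg.pCore p A : Set A) ≤ Cfsg.pCore p A) :
    Subgroup.centralizer (Cfsg.pCore p B : Set B) ≤ Cfsg.pCore p B := by
  intro b hb
  have h1 : e.symm b ∈ Subgroup.centralizer (Cfsg.pCore p A : Set A) := by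
    rw [Subgroup.mem_centralizer_iff]
    intro a ha
    have h2 : e a ∈ Cfsg.pCore p B := pCore_map_le e ⟨a, ha, rfl⟩
    have h3 := (Subgroup.mem_centralizer_iff.mp hb) _ h2
    apply e.injective
    simpa using h3
  have h4 := pCore_map_le e ⟨e.symm b, hA h1, rfl⟩
  simpa using h4

end Cfsg.Agent.Lib.Helper5.CharP
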