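import Mathlib
import Cfsg.Prelude.Def_IsolatedElements
import Cfsg.Agent.Lib.Helper5.SylowAux

set_option autoImplicit false

namespace Cfsg.Agent.Lib.Helper5.Isolated

theorem central_of_mem {G : Type*} [Group G] [Finite G] {p : ℕ} [Fact p.Prime] {x : G}
    (hiso : Cfsg.IsIsolated x) (R : Subgroup G) (hR : IsPGroup p R) (hx : x ∈ R) :
    ∀ r ∈ R, r * x * r⁻¹ = x := by
  classical
  by_contra hcon
  push Not at hcon
  obtain ⟨r, hr, hrx⟩ := hcon
  set C : Subgroup R := (Subgroup.centralizer ({x} : Set G)).subgroupOf R with hC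
  have hnil : Group.IsNilpotent R := hR.isNilpotent
  have hnc := Group.normalizerCondition_of_isNilpotent (G := R)
  have hlt : C < ⊤ := by
    rw [lt_top_iff_ne_top]
    intro h
    have h1 : (⟨r, hr⟩ : R) ∈ C := by rw [h]; trivial
    rw [hC, Subgroup.mem_subgroupOf, Subgroup.mem_centralizer_iff] at h1
    have h2 := h1 x rfl
    apply hrx
    simp only at h2
    rw [← h2]; group
  have h2 := hnc C hlt
  obtain ⟨n, hn, hnC⟩ := SetLike.exists_of_lt h2
  apply hnC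
  have hxC : (⟨x, hx⟩ : R) ∈ C := by
    rw [hC, Subgroup.mem_subgroupOf, Subgroup.mem_centralizer_iff]
    intro y hy; rw [Set.mem_singleton_iff.mp hy]
  have h3 : n * ⟨x, hx⟩ * n⁻¹ ∈ C := (Subgroup.mem_normalizer_iff.mp hn _).mp hxC
  rw [hC, Subgroup.mem_subgroupOf, Subgroup.mem_centralizer_iff] at h3
  have h4 := h3 x rfl
  have h5 : (n : G) * x * (n : G)⁻¹ = x := hiso n (by simpa [Commute, SemiconjBy] using h4)
  rw [hC, Subgroup.mem_subgroupOf, Subgroup.mem_centralizer_iff]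
  intro y hy
  rw [Set.mem_singleton_iff.mp hy]
  exact (mul_inv_eq_iff_eq_mul.mp h5).symm

theorem conj_eq_of_mem {G : Type*} [Group G] [Finite G] {p : ℕ} [Fact p.Prime] {x : G}
    (hiso : Cfsg.IsIsolated x) (R : Subgroup G) (hR : IsPGroup p R) (hx : x ∈ R)
    (g : G) (hg : g * x * g⁻¹ ∈ R) : g * x * g⁻¹ = x := by
  apply hiso
  have h := central_of_mem hiso R hR hx (g * x * g⁻¹) hg
  unfold Commute SemiconjBy
  exact (mul_inv_eq_iff_eq_mul.mp h).symm

theorem isPGroup_zpowers {G : Type*} [Group G] {p : ℕ} [Fact p.Prime] {x : G}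
    (hx : ∃ k : ℕ, orderOf x = p ^ k) : IsPGroup p (Subgroup.zpowers x) := by
  obtain ⟨k, hk⟩ := hx
  exact IsPGroup.of_card (n := k) (by rw [Nat.card_zpowers, hk])

theorem exists_conj {G : Type*} [Group G] [Finite G] {p : ℕ} [Fact p.Prime] {x : G}
    (hiso : Cfsg.IsIsolated x) (hx : ∃ k : ℕ, orderOf x = p ^ k) (D : Subgroup G)
    (hxD : x ∈ D) (g : G) (hgD : g * x * g⁻¹ ∈ D) :
    ∃ d ∈ D, d * (g * x * g⁻¹) * d⁻¹ = x := by
  have hzp : IsPGroup p ((Subgroup.zpowers x).subgroupOf D) :=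
    (isPGroup_zpowers hx).comap_subtype
  obtain ⟨S, hS⟩ := hzp.exists_le_sylow
  have hw : ∃ k : ℕ, orderOf (g * x * g⁻¹) = p ^ k := by
    obtain ⟨k, hk⟩ := hx
    refine ⟨k, ?_⟩
    rw [← hk]
    exact (MulAut.conj g).orderOf_eq x
  have hwp : IsPGroup p ((Subgroup.zpowers (g * x * g⁻¹)).subgroupOf D) :=
    (isPGroup_zpowers hw).comap_subtype
  obtain ⟨d, hd⟩ := SylowAux.sylow_conj_le S _ hwp
  have h1 := hd ⟨g * x * g⁻¹, hgD⟩ (by
    rw [Subgroup.mem_subgroupOf]; exact Subgroup.mem_zpowers _)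
  refine ⟨d, d.2, ?_⟩
  have hxS : x ∈ (S : Subgroup D).map D.subtype :=
    ⟨⟨x, hxD⟩, hS (by rw [Subgroup.mem_subgroupOf]; exact Subgroup.mem_zpowers _), rfl⟩
  have h2 := conj_eq_of_mem hiso ((S : Subgroup D).map D.subtype) (S.isPGroup'.map D.subtype) hxS
    ((d : G) * g) (by
      refine ⟨_, h1, ?_⟩
      simp [mul_assoc])
  calc (d : G) * (g * x * g⁻¹) * (d : G)⁻¹ = (d : G) * g * x * ((d : G) * g)⁻¹ := by group
    _ = x := h2

end Cfsg.Agent.Lib.Helper5.Isolated
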