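import Mathlib
import Cfsg.Prelude.Def_Solvable
import Cfsg.Agent.Lib.Helper5.Coprime

set_option autoImplicit false

namespace Cfsg.Agent.Lib.Helper5.NormalComplement

theorem sylow_of_normalizer_eq {G : Type*} [Group G] [Finite G] {p : ℕ} [Fact p.Prime]
    (Q : Subgroup G) (hQ : IsPGroup p Q) (hN : Subgroup.normalizer (Q : Set G) = Q) :
    ∃ S : Sylow p G, (S : Subgroup G) = Q := by
  obtain ⟨S, hS⟩ := hQ.exists_le_sylow
  refine ⟨S, ?_⟩
  by_contra hne
  have hnil : Group.IsNilpotent S := S.isPGroup'.isNilpotent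
  have hnc := Group.normalizerCondition_of_isNilpotent (G := S)
  have hlt : Q.subgroupOf S < ⊤ := by
    rw [lt_top_iff_ne_top]
    intro h
    apply hne
    apply le_antisymm _ hS
    intro s hs
    have h1 : (⟨s, hs⟩ : S) ∈ Q.subgroupOf S := by rw [h]; trivial
    exact Subgroup.mem_subgroupOf.mp h1
  have h2 := hnc _ hlt
  rw [← Subgroup.subgroupOf_normalizer_eq hS, hN] at h2
  exact lt_irrefl _ h2

theorem exists_normal_complement {G : Type*} [Group G] [Finite G] {p : ℕ} [Fact p.Prime]
    (Q : Subgroup G) (hQ : IsPGroup p Q) (hab : ∀ a ∈ Q, ∀ b ∈ Q, a * b = b * a)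
    (hN : Subgroup.normalizer (Q : Set G) = Q) :
    ∃ K : Subgroup G, K.Normal ∧ K.IsComplement' Q ∧ (Nat.card K).Coprime p ∧
      Cfsg.pPrimeCore p G = K := by
  have hp : p.Prime := Fact.out
  obtain ⟨S, hS⟩ := sylow_of_normalizer_eq Q hQ hN
  have hP : Subgroup.normalizer ((S : Subgroup G) : Set G) ≤ Subgroup.centralizer ((S : Subgroup G) : Set G) := by
    rw [hS, hN]
    intro a ha
    rw [Subgroup.mem_centralizer_iff]
    intro b hb
    exact hab b hb a ha
  have hc := MonoidHom.ker_transferSylow_isComplement' S hP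
  have hcop : (Nat.card (MonoidHom.transferSylow S hP).ker).Coprime p := by
    have h1 := hc.index_eq_card
    have h2 := S.not_dvd_index
    rw [h1] at h2
    exact ((Nat.Prime.coprime_iff_not_dvd hp).mpr h2).symm
  refine ⟨(MonoidHom.transferSylow S hP).ker, inferInstance, ?_, hcop, ?_⟩
  · rw [← hS]; exact hc
  · apply le_antisymm
    · apply sSup_le
      rintro N ⟨hNn, hNc⟩ x hx
      rw [MonoidHom.mem_ker]
      obtain ⟨k, hk⟩ := (S.isPGroup') (MonoidHom.transferSylow S hP x)
      have h3 : (MonoidHom.transferSylow S hP x) ^ Nat.card N = 1 := by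
        rw [← map_pow]
        have h4 : x ^ Nat.card N = 1 :=
          orderOf_dvd_iff_pow_eq_one.mp (Subgroup.orderOf_dvd_natCard N hx)
        rw [h4, map_one]
      exact Cfsg.Agent.Lib.Helper5.Coprime.eq_one_of_pow_of_pow _ k _ hNc hk h3
    · exact le_sSup ⟨inferInstance, hcop⟩

end Cfsg.Agent.Lib.Helper5.NormalComplement
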