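import Mathlib
import Cfsg.Prelude.Def_LocalStructure
import Cfsg.Agent.Lib.Helper3.Residual
import Cfsg.Agent.Lib.Helper8.HypGroup
import Cfsg.Agent.S0542

set_option autoImplicit false

namespace Cfsg.Agent.Lib.Helper5.PIrr

open Cfsg

theorem pres_le_of_quot {H : Type*} [Group H] {p : ℕ} [Fact p.Prime] (N : Subgroup H) [N.Normal]
    (h : IsPGroup p (H ⧸ N)) : pResidual p H ≤ N := by
  have hp : p.Prime := Fact.out
  unfold pResidual
  rw [Subgroup.closure_le]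
  intro x hx
  have hx' : Nat.Coprime (orderOf x) p := hx
  obtain ⟨k, hk⟩ := h (QuotientGroup.mk x)
  have h1 : orderOf (QuotientGroup.mk x : H ⧸ N) ∣ p ^ k := orderOf_dvd_of_pow_eq_one hk
  have h2 : orderOf (QuotientGroup.mk x : H ⧸ N) ∣ orderOf x :=
    orderOf_map_dvd (QuotientGroup.mk' N) x
  have h3 : orderOf (QuotientGroup.mk x : H ⧸ N) = 1 :=
    Nat.eq_one_of_dvd_coprimes (Nat.Coprime.pow_right k hx') h2 h1
  rw [orderOf_eq_one_iff] at h3
  exact (QuotientGroup.eq_one_iff x).1 h3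

theorem quot_pgroup_of_sup {H : Type*} [Group H] {p : ℕ} (N : Subgroup H) [N.Normal]
    (T : Subgroup H) (hT : IsPGroup p T) (h : N ⊔ T = ⊤) : IsPGroup p (H ⧸ N) := by
  have hsurj : Function.Surjective ((QuotientGroup.mk' N).comp T.subtype) := by
    intro q
    obtain ⟨x, rfl⟩ := QuotientGroup.mk_surjective q
    have hx : x ∈ ((N ⊔ T : Subgroup H) : Set H) := by rw [h]; exact Set.mem_univ x
    rw [Subgroup.normal_mul] at hx
    obtain ⟨n, hn, t, ht, rfl⟩ := Set.mem_mul.1 hx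
    refine ⟨⟨t, ht⟩, ?_⟩
    show (QuotientGroup.mk t : H ⧸ N) = QuotientGroup.mk (n * t)
    rw [QuotientGroup.eq]
    have e : t⁻¹ * (n * t) = t⁻¹ * n * t⁻¹⁻¹ := by group
    rw [e]
    exact ‹N.Normal›.conj_mem n hn t⁻¹
  exact hT.of_surjective _ hsurj

theorem pres_le_of_sup {H : Type*} [Group H] {p : ℕ} [Fact p.Prime] (N : Subgroup H) [N.Normal]
    (T : Subgroup H) (hT : IsPGroup p T) (h : N ⊔ T = ⊤) : pResidual p H ≤ N :=
  pres_le_of_quot N (quot_pgroup_of_sup N T hT h)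

theorem le_of_minimal {H : Type*} [Group H] [Finite H] {Y : Subgroup H}
    (hmin : IsMinimalOver Y) :
    ∃ M : Subgroup H, IsCoatom M ∧ Y ≤ M ∧ ∀ K : Subgroup H, Y ≤ K → K ≠ ⊤ → K ≤ M := by
  obtain ⟨-, M, ⟨hM, hYM⟩, huniq⟩ := hmin
  refine ⟨M, hM, hYM, ?_⟩
  intro K hYK hK
  obtain ⟨C, hC, hKC⟩ := (eq_top_or_exists_le_coatom K).resolve_left hK
  have := huniq C ⟨hC, hYK.trans hKC⟩
  rw [← this]; exact hKC

theorem pclosed_of_normal {N : Type*} [Group N] [Finite N] {p : ℕ} [Fact p.Prime]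
    (Q : Sylow p N) (hQ : (Q : Subgroup N).Normal) : IsPClosed p N := by
  intro P
  obtain ⟨g, rfl⟩ := MulAction.exists_smul_eq N Q P
  haveI := hQ
  rw [Sylow.smul_eq_of_normal]; exact hQ

theorem sylow_map_normal {H : Type*} [Group H] [Finite H] {p : ℕ} [Fact p.Prime]
    (N : Subgroup H) [N.Normal] (Q : Sylow p N) (hQ : (Q : Subgroup N).Normal) :
    ((Q : Subgroup N).map N.subtype).Normal := by
  have hfr := Sylow.normalizer_sup_eq_top Q
  have hN : N ≤ Subgroup.normalizer ((((Q : Subgroup N).map N.subtype : Subgroup H)) : Set H) := by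
    intro n hn
    rw [Subgroup.mem_normalizer_iff]
    intro x
    constructor
    · rintro ⟨y, hy, rfl⟩
      exact ⟨⟨n, hn⟩ * y * ⟨n, hn⟩⁻¹, hQ.conj_mem y hy _, rfl⟩
    · rintro ⟨y, hy, hyx⟩
      refine ⟨⟨n, hn⟩⁻¹ * y * ⟨n, hn⟩⁻¹⁻¹, hQ.conj_mem y hy _, ?_⟩
      have e : N.subtype (⟨n, hn⟩⁻¹ * y * ⟨n, hn⟩⁻¹⁻¹) = n⁻¹ * N.subtype y * n := by
        simp
      rw [e, hyx]; group
  rw [sup_eq_left.2 hN] at hfr
  exact Subgroup.normalizer_eq_top_iff.1 hfr

theorem pclosed_subgroup_iff {H : Type*} [Group H] [Finite H] {p : ℕ} [Fact p.Prime]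
    (N : Subgroup H) [N.Normal] (T : Sylow p H) :
    IsPClosed p ↥N ↔ ((T : Subgroup H) ⊓ N).Normal := by
  obtain ⟨Q, hQ⟩ := Cfsg.Agent.S0542.result p N (Subgroup.Normal.isSubnormal inferInstance) T
  have hQmap : (Q : Subgroup N).map N.subtype = (T : Subgroup H) ⊓ N := by
    rw [hQ, Subgroup.subgroupOf_map_subtype]
  constructor
  · intro h
    rw [← hQmap]
    exact sylow_map_normal N Q (h Q)
  · intro h
    apply pclosed_of_normal Q
    rw [hQ]
    have e : (T : Subgroup H).subgroupOf N = ((T : Subgroup H) ⊓ N).subgroupOf N := by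
      rw [Subgroup.inf_subgroupOf_right]
    rw [e]
    exact h.comap _

end Cfsg.Agent.Lib.Helper5.PIrr
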