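import Mathlib
import Cfsg.Agent.Lib.Helper5.PIrr
import Cfsg.Agent.Lib.Helper3.Core

set_option autoImplicit false

namespace Cfsg.Agent.Lib.Helper5.PIrr

open Cfsg

theorem pclosed_of_equiv {A B : Type*} [Group A] [Group B] {p : ℕ} (e : A ≃* B)
    (h : IsPClosed p A) : IsPClosed p B := by
  intro P
  let Q : Sylow p A := P.comapOfInjective e.toMonoidHom e.injective (by
    intro x _; exact ⟨e.symm x, by simp⟩)
  have hQ : (Q : Subgroup A) = (P : Subgroup B).comap e.toMonoidHom := rfl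
  have h1 := h Q
  rw [hQ] at h1
  have h2 := h1.map e.toMonoidHom e.surjective
  rw [Subgroup.map_comap_eq_self_of_surjective e.surjective] at h2
  exact h2

theorem pclosed_iff {H : Type*} [Group H] [Finite H] {p : ℕ} [Fact p.Prime] (T : Sylow p H) :
    IsPClosed p H ↔ (T : Subgroup H).Normal :=
  ⟨fun h => h T, fun h => pclosed_of_normal T h⟩

theorem mk_eq_one_of_coprime {H : Type*} [Group H] {p : ℕ} [Fact p.Prime] (C : Subgroup H)
    [C.Normal] (Q : Subgroup (H ⧸ C)) (hQ : IsPGroup p Q) (x : H)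
    (hx : Nat.Coprime (orderOf x) p) (hxq : (QuotientGroup.mk' C x) ∈ Q) : x ∈ C := by
  obtain ⟨k, hk⟩ := hQ ⟨_, hxq⟩
  have hk' : (QuotientGroup.mk' C x) ^ p ^ k = 1 := congrArg Subtype.val hk
  have h4 : orderOf (QuotientGroup.mk' C x) ∣ p ^ k := orderOf_dvd_of_pow_eq_one hk'
  have h5 : orderOf (QuotientGroup.mk' C x) ∣ orderOf x := orderOf_map_dvd _ x
  have h6 : orderOf (QuotientGroup.mk' C x) = 1 :=
    Nat.eq_one_of_dvd_coprimes (Nat.Coprime.pow_right k hx) h5 h4
  rw [orderOf_eq_one_iff] at h6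
  exact (QuotientGroup.eq_one_iff x).1 h6

end Cfsg.Agent.Lib.Helper5.PIrr
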