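import Mathlib
import Cfsg.Prelude.Def_TwoFusion
import Cfsg.Agent.Lib.Helper5.WC
import Cfsg.Agent.Lib.Helper5.Coprime
import Cfsg.Agent.Lib.Helper3.Residual
import Cfsg.Agent.Lib.Helper2.Sub
import Cfsg.Agent.Lib.Helper2.CoprimeAct2
import Cfsg.Agent.Lib.Helper8.ClassicAlperin
import Cfsg.Agent.S0542
import Cfsg.Agent.S2819

set_option autoImplicit false

namespace Cfsg.Agent.Lib.Helper5.SCF

open Cfsg
open Cfsg.Agent.Lib.Helper5.WC
open scoped commutatorElement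

theorem conj_iter {G : Type*} [Group G] (x v c : G) (hx : x * v * x⁻¹ = v * c)
    (hc : x * c * x⁻¹ = c) (i : ℕ) : x ^ i * v * (x ^ i)⁻¹ = v * c ^ i := by
  induction i with
  | zero => simp
  | succ i ih =>
    have hci : x * c ^ i * x⁻¹ = c ^ i := by rw [← conj_pow, hc]
    calc x ^ (i + 1) * v * (x ^ (i + 1))⁻¹ = x * (x ^ i * v * (x ^ i)⁻¹) * x⁻¹ := by
          rw [pow_succ']; group
      _ = x * (v * c ^ i) * x⁻¹ := by rw [ih]
      _ = (x * v * x⁻¹) * (x * c ^ i * x⁻¹) := by group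
      _ = v * c ^ (i + 1) := by rw [hx, hci, pow_succ', mul_assoc]

theorem coprime_stab {G : Type*} [Group G] {p : ℕ} (D A₀ : Subgroup G) (hA₀ : IsPGroup p A₀)
    (y : G) (hy1 : ∀ a ∈ A₀, y * a * y⁻¹ = a) (hy2 : ∀ d ∈ D, d⁻¹ * (y * d * y⁻¹) ∈ A₀)
    (hyo : Nat.Coprime (orderOf y) p) : ∀ d ∈ D, y * d * y⁻¹ = d := by
  intro d hd
  obtain ⟨c, hcd⟩ : ∃ c, c = d⁻¹ * (y * d * y⁻¹) := ⟨_, rfl⟩
  have hc : c ∈ A₀ := by rw [hcd]; exact hy2 d hd
  have h1 : y * d * y⁻¹ = d * c := by rw [hcd]; group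
  have h2 := conj_iter y d c h1 (hy1 c hc) (orderOf y)
  rw [pow_orderOf_eq_one] at h2
  have h3 : c ^ orderOf y = 1 := by
    have h4 : d = d * c ^ orderOf y := by simpa using h2
    exact (mul_eq_left.mp h4.symm)
  obtain ⟨k, hk⟩ := hA₀ ⟨c, hc⟩
  have hk' : c ^ p ^ k = 1 := by simpa using congrArg Subtype.val hk
  have hc1 : c = 1 :=
    Cfsg.Agent.Lib.Helper5.Coprime.eq_one_of_pow_of_pow c k (orderOf y) hyo hk' h3
  rw [h1, hc1, mul_one]

theorem sylow_inf_normal_rel {G : Type*} [Group G] [Finite G] {p : ℕ} [Fact p.Prime]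
    (N K T : Subgroup G) (hKN : K ≤ N) (hnorm : N ≤ Subgroup.normalizer (K : Set G))
    (hTN : T ≤ N) (hT : IsPGroup p T) (hTi : ¬ p ∣ T.relIndex N) :
    ¬ p ∣ (T ⊓ K).relIndex K := by
  have hpp : p.Prime := Fact.out
  have hT' : IsPGroup p (T.subgroupOf N) := hT.comap_subtype
  obtain ⟨TS, hTS⟩ : ∃ TS : Sylow p ↥N, (TS : Subgroup ↥N) = T.subgroupOf N :=
    ⟨hT'.toSylow hTi, rfl⟩
  haveI hKn : (K.subgroupOf N).Normal :=
    (Subgroup.normal_subgroupOf_iff_le_normalizer hKN).2 hnorm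
  have h1 := Cfsg.Agent.S0542.card_sylow_inf_normal TS (K.subgroupOf N)
  have e1 : ((TS : Subgroup ↥N) ⊓ K.subgroupOf N) = (T ⊓ K).subgroupOf N := by
    rw [hTS]
    ext x
    simp only [Subgroup.mem_inf, Subgroup.mem_subgroupOf]
  have e2 : Nat.card ((T ⊓ K).subgroupOf N) = Nat.card ↥(T ⊓ K) := by
    rw [Cfsg.Agent.S0542.card_subgroupOf_eq, inf_eq_left.mpr (inf_le_left.trans hTN)]
  have e3 : Nat.card (K.subgroupOf N) = Nat.card K := by
    rw [Cfsg.Agent.S0542.card_subgroupOf_eq, inf_eq_left.mpr hKN]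
  rw [e1, e2, e3] at h1
  have h2 : Nat.card ((T ⊓ K).subgroupOf K) * (T ⊓ K).relIndex K = Nat.card K :=
    Subgroup.card_mul_index ((T ⊓ K).subgroupOf K)
  rw [Cfsg.Agent.S0542.card_subgroupOf_eq, inf_eq_left.mpr (inf_le_right : T ⊓ K ≤ K), h1] at h2
  intro hdvd
  apply Nat.pow_succ_factorization_not_dvd (Nat.card_pos (α := K)).ne' hpp
  rw [pow_succ]
  calc p ^ (Nat.card K).factorization p * p
      ∣ p ^ (Nat.card K).factorization p * (T ⊓ K).relIndex K := Nat.mul_dvd_mul_left _ hdvd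
    _ = Nat.card K := h2

theorem conj_into_sylow {G : Type*} [Group G] [Finite G] {p : ℕ} [Fact p.Prime]
    (K Sy B C : Subgroup G) (hSy : IsPGroup p Sy) (hi : ¬ p ∣ Sy.relIndex K)
    (hB : IsPGroup p B) (hBK : B ≤ K)
    (hC : ∀ y ∈ K, Nat.Coprime (orderOf y) p → y ∈ C) :
    ∃ u ∈ C, ∀ b ∈ B, u * b * u⁻¹ ∈ Sy := by
  obtain ⟨u, hu, hle⟩ := Cfsg.Agent.Lib.Helper3.Residual.exists_conj_le (N := ↥K)
    (Sy.subgroupOf K) (B.subgroupOf K) hSy.comap_subtype hi hB.comap_subtype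
  have hres : Cfsg.pResidual p ↥K ≤ C.subgroupOf K := by
    unfold Cfsg.pResidual
    rw [Subgroup.closure_le]
    intro g hg
    have hg' : Nat.Coprime (orderOf g) p := hg
    rw [← Subgroup.orderOf_coe] at hg'
    exact Subgroup.mem_subgroupOf.mpr (hC _ g.2 hg')
  refine ⟨(u : G), Subgroup.mem_subgroupOf.mp (hres hu), fun b hb => ?_⟩
  have h1 : (MulAut.conj u).toMonoidHom ⟨b, hBK hb⟩ ∈
      (B.subgroupOf K).map (MulAut.conj u).toMonoidHom :=
    Subgroup.mem_map_of_mem _ (Subgroup.mem_subgroupOf.mpr hb)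
  have h2 := Subgroup.mem_subgroupOf.mp (hle h1)
  simpa using h2

theorem scf_step {G : Type*} [Group G] [Finite G] {p : ℕ} [Fact p.Prime] (S : Sylow p G)
    (A : Subgroup G) (hAab : ∀ a ∈ A, ∀ b ∈ A, a * b = b * a)
    (hsc : Cfsg.IsStronglyClosed A (S : Subgroup G))
    (D : Subgroup G) (hDS : D ≤ S) (hAD : ¬ A ≤ D)
    (hT : ¬ p ∣ ((S : Subgroup G) ⊓ Subgroup.normalizer (D : Set G)).relIndex
      (Subgroup.normalizer (D : Set G)))
    (y : G) (hy : y ∈ Subgroup.normalizer (D : Set G)) :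
    ∃ D₁ : Subgroup G, D₁ ≤ S ∧ D ≤ D₁ ∧ Nat.card D < Nat.card D₁ ∧
      ∃ n : G, (∀ d ∈ D₁, n * d * n⁻¹ ∈ (S : Subgroup G)) ∧
        ∀ d ∈ D, n * d * n⁻¹ = y * d * y⁻¹ := by
  classical
  obtain ⟨hAS, hcl⟩ := hsc
  have hSA : ∀ s ∈ (S : Subgroup G), ∀ a ∈ A, s * a * s⁻¹ ∈ A := fun s hs a ha =>
    hcl a ha s ((S : Subgroup G).mul_mem ((S : Subgroup G).mul_mem hs (hAS ha))
      ((S : Subgroup G).inv_mem hs))
  obtain ⟨N, hNd⟩ : ∃ N, N = Subgroup.normalizer (D : Set G) := ⟨_, rfl⟩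
  rw [← hNd] at hT hy
  have hDN : D ≤ N := by rw [hNd]; exact Subgroup.le_normalizer
  have hNmem : ∀ n ∈ N, ∀ d ∈ D, n * d * n⁻¹ ∈ D := by
    intro n hn d hd
    rw [hNd] at hn
    exact (Subgroup.mem_normalizer_iff.mp hn d).mp hd
  obtain ⟨A₀, hA₀d⟩ : ∃ A₀, A₀ = A ⊓ D := ⟨_, rfl⟩
  have hA₀A : A₀ ≤ A := by rw [hA₀d]; exact inf_le_left
  have hA₀D : A₀ ≤ D := by rw [hA₀d]; exact inf_le_right
  have hNA₀ : ∀ n ∈ N, ∀ a ∈ A₀, n * a * n⁻¹ ∈ A₀ := by
    intro n hn a ha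
    rw [hA₀d]
    have h1 := hNmem n hn a (hA₀D ha)
    exact Subgroup.mem_inf.mpr ⟨hcl a (hA₀A ha) n (hDS h1), h1⟩
  have hNA₀' : N ≤ Subgroup.normalizer (A₀ : Set G) := by
    intro n hn
    apply mem_normalizer_of_cj_le
    rintro _ ⟨a, ha, rfl⟩
    exact hNA₀ n hn a ha
  obtain ⟨K, hKd⟩ : ∃ K, K = N ⊓ Subgroup.centralizer (A₀ : Set G) ⊓
      Cfsg.Agent.S2819.kD D A₀ := ⟨_, rfl⟩
  have hKmem : ∀ k, k ∈ K ↔ k ∈ N ∧ (∀ a ∈ A₀, k * a * k⁻¹ = a) ∧
      (∀ d ∈ D, d * k * d⁻¹ * k⁻¹ ∈ A₀) := by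
    intro k
    rw [hKd]
    constructor
    · intro hk
      obtain ⟨h12, h3⟩ := Subgroup.mem_inf.mp hk
      obtain ⟨h1, h2⟩ := Subgroup.mem_inf.mp h12
      refine ⟨h1, ?_, ?_⟩
      · intro a ha
        rw [Subgroup.mem_centralizer_iff] at h2
        have h4 := h2 a ha
        rw [← h4]
        group
      · intro d hd
        exact h3.2 d hd
    · rintro ⟨h1, h2, h3⟩
      refine Subgroup.mem_inf.mpr ⟨Subgroup.mem_inf.mpr ⟨h1, ?_⟩, ?_⟩
      · rw [Subgroup.mem_centralizer_iff]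
        intro a ha
        have h4 := h2 a ha
        calc a * k = (k * a * k⁻¹) * k := by rw [h4]
          _ = k * a := by group
      · exact ⟨hNA₀' h1, h3⟩
  have hKN : K ≤ N := fun k hk => ((hKmem k).mp hk).1
  have hNK : N ≤ Subgroup.normalizer (K : Set G) := by
    intro n hn
    apply mem_normalizer_of_cj_le
    rintro _ ⟨k, hk, rfl⟩
    obtain ⟨h1, h2, h3⟩ := (hKmem k).mp hk
    show n * k * n⁻¹ ∈ K
    rw [hKmem]
    have hn' : n⁻¹ ∈ N := N.inv_mem hn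
    refine ⟨N.mul_mem (N.mul_mem hn h1) hn', ?_, ?_⟩
    · intro a ha
      have ha' : n⁻¹ * a * n ∈ A₀ := by
        have h4 := hNA₀ n⁻¹ hn' a ha
        simpa using h4
      calc n * k * n⁻¹ * a * (n * k * n⁻¹)⁻¹ = n * (k * (n⁻¹ * a * n) * k⁻¹) * n⁻¹ := by group
        _ = n * (n⁻¹ * a * n) * n⁻¹ := by rw [h2 _ ha']
        _ = a := by group
    · intro d hd
      have hd' : n⁻¹ * d * n ∈ D := by
        have h4 := hNmem n⁻¹ hn' d hd
        simpa using h4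
      have h5 := hNA₀ n hn _ (h3 _ hd')
      have e : d * (n * k * n⁻¹) * d⁻¹ * (n * k * n⁻¹)⁻¹ =
          n * ((n⁻¹ * d * n) * k * (n⁻¹ * d * n)⁻¹ * k⁻¹) * n⁻¹ := by group
      rw [e]
      exact h5
  obtain ⟨T, hTd⟩ : ∃ T, T = (S : Subgroup G) ⊓ N := ⟨_, rfl⟩
  rw [← hTd] at hT
  have hTp : IsPGroup p T := by rw [hTd]; exact S.2.to_le inf_le_left
  have hTN : T ≤ N := by rw [hTd]; exact inf_le_right
  have hTS : T ≤ S := by rw [hTd]; exact inf_le_left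
  have hT₁i := sylow_inf_normal_rel N K T hKN hNK hTN hTp hT
  obtain ⟨a₀, ha₀A, ha₀N, ha₀D⟩ : ∃ a, a ∈ A ∧ a ∈ N ∧ a ∉ D := by
    have hlt : D < D ⊔ A := by
      refine lt_of_le_of_ne le_sup_left ?_
      intro h
      apply hAD
      rw [h]
      exact le_sup_right
    have hΔ : IsPGroup p ↥(D ⊔ A) := S.2.to_le (sup_le hDS hAS)
    obtain ⟨α, hα, hαD, hαN⟩ :=
      Cfsg.Agent.Lib.Helper8.ClassicAlperin.exists_normalizing_of_lt hΔ hlt
    have hDnA : D ≤ Subgroup.normalizer (A : Set G) := by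
      intro d hd
      apply mem_normalizer_of_cj_le
      rintro _ ⟨a, ha, rfl⟩
      exact hSA d (hDS hd) a ha
    have hα' : α ∈ A ⊔ D := by rw [sup_comm]; exact hα
    obtain ⟨a, ha, d, hd, rfl⟩ :=
      Cfsg.Agent.Lib.Helper2.CoprimeAct.mem_sup_of_le_normalizer A D hDnA hα'
    refine ⟨a, ha, ?_, ?_⟩
    · rw [hNd]
      have h4 := Subgroup.mul_mem _ hαN (Subgroup.inv_mem _ (Subgroup.le_normalizer hd))
      simpa using h4
    · intro haD
      exact hαD (D.mul_mem haD hd)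
  have ha₀K : a₀ ∈ K := by
    rw [hKmem]
    refine ⟨ha₀N, ?_, ?_⟩
    · intro a ha
      rw [hAab a₀ ha₀A a (hA₀A ha)]
      group
    · intro d hd
      rw [hA₀d]
      refine Subgroup.mem_inf.mpr ⟨?_, ?_⟩
      · have h1 := hSA d (hDS hd) a₀ ha₀A
        exact A.mul_mem h1 (A.inv_mem ha₀A)
      · have h1 := hNmem a₀ ha₀N d⁻¹ (D.inv_mem hd)
        have e : d * a₀ * d⁻¹ * a₀⁻¹ = d * (a₀ * d⁻¹ * a₀⁻¹) := by group
        rw [e]
        exact D.mul_mem hd h1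
  have ha₀T : a₀ ∈ T ⊓ K :=
    Subgroup.mem_inf.mpr ⟨by rw [hTd]; exact Subgroup.mem_inf.mpr ⟨hAS ha₀A, ha₀N⟩, ha₀K⟩
  obtain ⟨B, hBd⟩ : ∃ B, B = cj (T ⊓ K) y := ⟨_, rfl⟩
  have hBp : IsPGroup p B := by
    rw [hBd]
    exact cj_isPGroup (hTp.to_le inf_le_left) y
  have hBK : B ≤ K := by
    rw [hBd]
    rintro _ ⟨t, ht, rfl⟩
    exact (Subgroup.mem_normalizer_iff.mp (hNK hy) t).mp (Subgroup.mem_inf.mp ht).2
  have hC : ∀ k ∈ K, Nat.Coprime (orderOf k) p → k ∈ Subgroup.centralizer (D : Set G) := by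
    intro k hk hko
    obtain ⟨h1, h2, h3⟩ := (hKmem k).mp hk
    have h4 := coprime_stab D A₀ (S.2.to_le (hA₀A.trans hAS)) k h2 (by
      intro d hd
      have h5 := A₀.inv_mem (h3 d hd)
      have h6 := hNA₀ d⁻¹ (hDN (D.inv_mem hd)) _ h5
      have e : d⁻¹ * (d * k * d⁻¹ * k⁻¹)⁻¹ * d⁻¹⁻¹ = d⁻¹ * (k * d * k⁻¹) := by group
      rw [e] at h6
      exact h6) hko
    rw [Subgroup.mem_centralizer_iff]
    intro d hd
    have h7 := h4 d hd
    calc d * k = (k * d * k⁻¹) * k := by rw [h7]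
      _ = k * d := by group
  obtain ⟨u, hu, huB⟩ := conj_into_sylow K (T ⊓ K) B (Subgroup.centralizer (D : Set G))
    (hTp.to_le inf_le_left) hT₁i hBp hBK hC
  have huD : ∀ d ∈ D, u * d * u⁻¹ = d := by
    intro d hd
    rw [Subgroup.mem_centralizer_iff] at hu
    have h4 := hu d hd
    rw [← h4]
    group
  refine ⟨D ⊔ (T ⊓ K), sup_le hDS (inf_le_left.trans hTS), le_sup_left, ?_, u * y, ?_, ?_⟩
  · apply Cfsg.Agent.Lib.Helper2.Sub.card_lt_of_ne le_sup_left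
    intro h
    apply ha₀D
    rw [h]
    exact (le_sup_right : T ⊓ K ≤ D ⊔ (T ⊓ K)) ha₀T
  · have hle : D ⊔ (T ⊓ K) ≤ cj (S : Subgroup G) (u * y)⁻¹ := by
      apply sup_le
      · intro d hd
        rw [mem_cj, inv_inv]
        have hyd := hNmem y hy d hd
        have e : u * y * d * (u * y)⁻¹ = u * (y * d * y⁻¹) * u⁻¹ := by group
        rw [e, huD _ hyd]
        exact hDS hyd
      · intro t ht
        rw [mem_cj, inv_inv]
        have hb : y * t * y⁻¹ ∈ B := by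
          rw [hBd]
          exact conj_mem_cj _ y t ht
        have e : u * y * t * (u * y)⁻¹ = u * (y * t * y⁻¹) * u⁻¹ := by group
        rw [e]
        exact hTS (Subgroup.mem_inf.mp (huB _ hb)).1
    intro d hd
    have h4 := hle hd
    rw [mem_cj, inv_inv] at h4
    exact h4
  · intro d hd
    have hyd := hNmem y hy d hd
    have e : u * y * d * (u * y)⁻¹ = u * (y * d * y⁻¹) * u⁻¹ := by group
    rw [e, huD _ hyd]

theorem scf_main {G : Type*} [Group G] [Finite G] {p : ℕ} [Fact p.Prime] (S : Sylow p G)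
    (A : Subgroup G) (hAab : ∀ a ∈ A, ∀ b ∈ A, a * b = b * a)
    (hsc : Cfsg.IsStronglyClosed A (S : Subgroup G)) :
    ∀ (m : ℕ) (D : Subgroup G), D ≤ S → Nat.card (S : Subgroup G) - Nat.card D = m →
      ∀ g : G, (∀ d ∈ D, g * d * g⁻¹ ∈ (S : Subgroup G)) →
      ∃ x ∈ Subgroup.normalizer (A : Set G), ∀ d ∈ D, x * d * x⁻¹ = g * d * g⁻¹ := by
  intro m
  induction m using Nat.strong_induction_on with
  | _ m ih =>
    intro D hDS hm g hg
    have hAS := hsc.1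
    have hcl := hsc.2
    have hnormA : ∀ n : G, (∀ a ∈ A, n * a * n⁻¹ ∈ (S : Subgroup G)) →
        n ∈ Subgroup.normalizer (A : Set G) := by
      intro n hn
      apply mem_normalizer_of_cj_le
      rintro _ ⟨a, ha, rfl⟩
      exact hcl a ha n (hn a ha)
    by_cases hAD : A ≤ D
    · exact ⟨g, hnormA g (fun a ha => hg a (hAD ha)), fun d hd => rfl⟩
    have hstep : ∀ D' : Subgroup G, D' ≤ S → Nat.card D ≤ Nat.card D' →
        ¬ p ∣ ((S : Subgroup G) ⊓ Subgroup.normalizer (D' : Set G)).relIndex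
          (Subgroup.normalizer (D' : Set G)) →
        ∀ y ∈ Subgroup.normalizer (D' : Set G), ∃ x ∈ Subgroup.normalizer (A : Set G),
          ∀ d ∈ D', y⁻¹ * d * y = x⁻¹ * d * x := by
      intro D' hD'S hcard hT y hy
      by_cases hAD' : A ≤ D'
      · refine ⟨y, hnormA y ?_, fun d hd => rfl⟩
        intro a ha
        exact hD'S ((Subgroup.mem_normalizer_iff.mp hy a).mp (hAD' ha))
      · obtain ⟨D₁, hD₁S, hD'D₁, hlt, n, hn1, hn2⟩ :=
          scf_step S A hAab hsc D' hD'S hAD' hT y⁻¹ (Subgroup.inv_mem _ hy)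
        have hD₁card : Nat.card D₁ ≤ Nat.card (S : Subgroup G) := Subgroup.card_le_of_le hD₁S
        obtain ⟨x', hx', hx'2⟩ :=
          ih (Nat.card (S : Subgroup G) - Nat.card D₁) (by omega) D₁ hD₁S rfl n hn1
        refine ⟨x'⁻¹, Subgroup.inv_mem _ hx', fun d hd => ?_⟩
        rw [inv_inv, hx'2 d (hD'D₁ hd), hn2 d hd, inv_inv]
    have hchain : ∀ (l : List (Sylow p G × G)) (X : Set G),
        Cfsg.Agent.Lib.Helper8.ClassicAlperin.Chain S X l →
        (∀ D' : Subgroup G, X ⊆ (D' : Set G) → Nat.card D ≤ Nat.card D') →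
        ∃ x ∈ Subgroup.normalizer (A : Set G), ∀ a ∈ X,
          (Cfsg.Agent.Lib.Helper8.ClassicAlperin.lprod l)⁻¹ * a *
            (Cfsg.Agent.Lib.Helper8.ClassicAlperin.lprod l) = x⁻¹ * a * x := by
      intro l
      induction l with
      | nil =>
        intro X _ _
        exact ⟨1, Subgroup.one_mem _, fun a _ => by
          simp [Cfsg.Agent.Lib.Helper8.ClassicAlperin.lprod_nil]⟩
      | cons e l ihl =>
        intro X hX hsize
        obtain ⟨hst, hXsub, hrest⟩ := hX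
        obtain ⟨x₁, hx₁, hx₁'⟩ := hstep ((S : Subgroup G) ⊓ (e.1 : Subgroup G)) inf_le_left
          (hsize _ hXsub) hst.2.1 e.2 hst.1
        obtain ⟨x₂, hx₂, hx₂'⟩ := ihl (Cfsg.Agent.Lib.Helper8.ClassicAlperin.cj e.2 X) hrest (by
          intro D'' hsub
          have h4 := hsize (cj D'' e.2) (by
            intro a ha
            rw [SetLike.mem_coe, mem_cj]
            exact hsub ⟨a, ha, rfl⟩)
          rw [card_cj] at h4
          exact h4)
        refine ⟨x₁ * x₂, Subgroup.mul_mem _ hx₁ hx₂, fun a ha => ?_⟩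
        rw [Cfsg.Agent.Lib.Helper8.ClassicAlperin.lprod_cons]
        have h1 : e.2⁻¹ * a * e.2 ∈ Cfsg.Agent.Lib.Helper8.ClassicAlperin.cj e.2 X :=
          ⟨a, ha, rfl⟩
        have h2 := hx₂' _ h1
        have h3 := hx₁' a (hXsub ha)
        calc (e.2 * Cfsg.Agent.Lib.Helper8.ClassicAlperin.lprod l)⁻¹ * a *
              (e.2 * Cfsg.Agent.Lib.Helper8.ClassicAlperin.lprod l)
            = (Cfsg.Agent.Lib.Helper8.ClassicAlperin.lprod l)⁻¹ * (e.2⁻¹ * a * e.2) *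
              Cfsg.Agent.Lib.Helper8.ClassicAlperin.lprod l := by group
          _ = x₂⁻¹ * (e.2⁻¹ * a * e.2) * x₂ := h2
          _ = x₂⁻¹ * (x₁⁻¹ * a * x₁) * x₂ := by rw [h3]
          _ = (x₁ * x₂)⁻¹ * a * (x₁ * x₂) := by group
    obtain ⟨l, hl, hch⟩ := Cfsg.Agent.Lib.Helper8.ClassicAlperin.alperin S (D : Set G) g⁻¹ hDS (by
      rintro _ ⟨d, hd, rfl⟩
      have h4 := hg d hd
      show g⁻¹⁻¹ * d * g⁻¹ ∈ (S : Subgroup G)
      rw [inv_inv]
      exact h4)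
    obtain ⟨x, hx, hx'⟩ := hchain l (D : Set G) hch (fun D' hsub => Subgroup.card_le_of_le hsub)
    refine ⟨x⁻¹, Subgroup.inv_mem _ hx, fun d hd => ?_⟩
    have h5 := hx' d hd
    rw [hl, inv_inv] at h5
    rw [inv_inv, ← h5]

end Cfsg.Agent.Lib.Helper5.SCF
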