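import Mathlib

set_option autoImplicit false

namespace Cfsg.Agent.Lib.Helper5.TransferAux

theorem transfer_eq_of_trivial {G : Type*} [Group G] [Finite G] (M : Subgroup G) {A : Type*}
    [CommGroup A] (ϕ : M →* A)
    (hϕ : ∀ k : G, k ∉ M → ∀ y : G, ∀ n : ℕ, ∀ hk : k⁻¹ * y ^ n * k ∈ M, y ∈ M →
      ϕ ⟨k⁻¹ * y ^ n * k, hk⟩ = 1)
    (y : G) (hy : y ∈ M) : MonoidHom.transfer ϕ y = ϕ ⟨y, hy⟩ := by
  classical
  haveI : Fintype (Quotient (MulAction.orbitRel (Subgroup.zpowers y) (G ⧸ M))) := Fintype.ofFinite _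
  rw [MonoidHom.transfer_eq_prod_quotient_orbitRel_zpowers_quot ϕ y]
  have hone : ∀ z : G, z ∈ M → ((z : G) : G ⧸ M) = ((1 : G) : G ⧸ M) := by
    intro z hz
    rw [QuotientGroup.eq]
    simpa using hz
  have hone' : ∀ z : G, ((z : G) : G ⧸ M) = ((1 : G) : G ⧸ M) → z ∈ M := by
    intro z hz
    rw [QuotientGroup.eq] at hz
    simpa using hz
  rw [Fintype.prod_eq_single (Quotient.mk'' (((1 : G) : G ⧸ M)))]
  · have h1 : (Quotient.mk'' (((1 : G) : G ⧸ M)) : Quotient (MulAction.orbitRel (Subgroup.zpowers y) (G ⧸ M))).out = ((1 : G) : G ⧸ M) := by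
      have h2 := Quotient.mk_out (s := MulAction.orbitRel (Subgroup.zpowers y) (G ⧸ M)) (((1 : G) : G ⧸ M))
      obtain ⟨z, hz⟩ := h2
      rw [← hz]
      obtain ⟨z, hzy⟩ := z
      change ((z * 1 : G) : G ⧸ M) = _
      apply hone
      rw [mul_one]
      exact (Subgroup.zpowers_le.mpr hy) hzy
    have hk : (Quotient.mk'' (((1 : G) : G ⧸ M)) : Quotient (MulAction.orbitRel (Subgroup.zpowers y) (G ⧸ M))).out.out ∈ M := by
      apply hone'
      rw [QuotientGroup.out_eq', h1]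
    have hmp : Function.minimalPeriod (y • ·) (Quotient.mk'' (((1 : G) : G ⧸ M)) : Quotient (MulAction.orbitRel (Subgroup.zpowers y) (G ⧸ M))).out = 1 := by
      rw [Function.minimalPeriod_eq_one_iff_isFixedPt, h1]
      change ((y * 1 : G) : G ⧸ M) = _
      apply hone
      rw [mul_one]; exact hy
    have h3 : (⟨_, QuotientGroup.out_conj_pow_minimalPeriod_mem M y (Quotient.mk'' (((1 : G) : G ⧸ M)) : Quotient (MulAction.orbitRel (Subgroup.zpowers y) (G ⧸ M))).out⟩ : M)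
        = (⟨_, hk⟩ : M)⁻¹ * ⟨y, hy⟩ * ⟨_, hk⟩ := by
      apply Subtype.ext
      simp [hmp]
    rw [h3, map_mul, map_mul, map_inv, mul_comm, mul_inv_cancel_left]
  · intro q hq
    apply hϕ
    · intro hk
      apply hq
      have h1 := hone _ hk
      rw [QuotientGroup.out_eq'] at h1
      rw [← h1]
      exact (Quotient.out_eq' q).symm
    · exact hy

end Cfsg.Agent.Lib.Helper5.TransferAux
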