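import Mathlib

set_option autoImplicit false

namespace Cfsg.Agent.Lib.Helper5.TransferInv

theorem transfer_involution {G : Type*} [Group G] [Finite G] (S : Subgroup G) {A : Type*}
    [CommGroup A] (ϕ : S →* A) (z : G) (hz : z ^ 2 = 1) [Fintype (G ⧸ S)] (f : G ⧸ S → A)
    (hf : ∀ a : G ⧸ S, z • a = a → ∀ h : a.out⁻¹ * z * a.out ∈ S, f a = ϕ ⟨_, h⟩)
    (hf' : ∀ a : G ⧸ S, z • a ≠ a → f a = 1) :
    MonoidHom.transfer ϕ z = ∏ a : G ⧸ S, f a := by
  classical
  let _ : Fintype (Quotient (MulAction.orbitRel (Subgroup.zpowers z) (G ⧸ S))) := Fintype.ofFinite _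
  rw [MonoidHom.transfer_eq_prod_quotient_orbitRel_zpowers_quot ϕ z]
  rw [← Finset.prod_fiberwise (s := Finset.univ) (g := fun a : G ⧸ S =>
    (Quotient.mk'' a : Quotient (MulAction.orbitRel (Subgroup.zpowers z) (G ⧸ S)))) (f := f)]
  refine Finset.prod_congr rfl (fun q _ => ?_)
  have horb : ∀ b : G ⧸ S, (Quotient.mk'' b : Quotient (MulAction.orbitRel (Subgroup.zpowers z) (G ⧸ S))) = q →
      ∃ i : ℤ, z ^ i • q.out = b := by
    intro b hb
    have h1 : (Quotient.mk'' b : Quotient (MulAction.orbitRel (Subgroup.zpowers z) (G ⧸ S))) =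
        Quotient.mk'' q.out := by rw [hb]; exact (Quotient.out_eq' q).symm
    have h2 := Quotient.exact' h1
    obtain ⟨⟨w, hw⟩, hwb⟩ := h2
    obtain ⟨i, rfl⟩ := Subgroup.mem_zpowers_iff.mp hw
    exact ⟨i, hwb⟩
  by_cases hfix : z • q.out = q.out
  · have hk : Function.minimalPeriod (z • ·) q.out = 1 :=
      Function.minimalPeriod_eq_one_iff_isFixedPt.mpr hfix
    rw [Finset.prod_eq_single q.out]
    · have hmem : q.out.out⁻¹ * z * q.out.out ∈ S := by
        have := QuotientGroup.out_conj_pow_minimalPeriod_mem S z q.out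
        rwa [hk, pow_one] at this
      rw [hf q.out hfix hmem]
      congr 1
      apply Subtype.ext
      simp [hk]
    · intro b hb hbne
      exfalso; apply hbne
      rw [Finset.mem_filter] at hb
      obtain ⟨i, rfl⟩ := horb b hb.2
      have hzs : z ∈ MulAction.stabilizer G q.out := hfix
      exact (Subgroup.zpow_mem _ hzs i)
    · intro h; exfalso; apply h
      rw [Finset.mem_filter]
      exact ⟨Finset.mem_univ _, Quotient.out_eq' q⟩
  · have hk : Function.minimalPeriod (z • ·) q.out = 2 := by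
      have hdvd : Function.minimalPeriod (z • ·) q.out ∣ 2 := by
        rw [← MulAction.pow_smul_eq_iff_minimalPeriod_dvd, hz, one_smul]
      rcases (Nat.dvd_prime Nat.prime_two).mp hdvd with h | h
      · exact absurd (Function.minimalPeriod_eq_one_iff_isFixedPt.mp h) hfix
      · exact h
    rw [Finset.prod_eq_one]
    · have : (⟨q.out.out⁻¹ * z ^ Function.minimalPeriod (z • ·) q.out * q.out.out,
          QuotientGroup.out_conj_pow_minimalPeriod_mem S z q.out⟩ : S) = 1 := by
        apply Subtype.ext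
        simp [hk, hz]
      rw [this, map_one]
    · intro b hb
      apply hf'
      rw [Finset.mem_filter] at hb
      obtain ⟨i, rfl⟩ := horb b hb.2
      intro hcon
      apply hfix
      rw [smul_smul, ((Commute.refl z).zpow_right i).eq, ← smul_smul] at hcon
      exact smul_left_cancel _ hcon

theorem even_card_filter_of_no_fixed {P : Type*} [Group P] (hP : IsPGroup 2 P) {α : Type*}
    [MulAction P α] [Fintype α] (p : α → Prop) [DecidablePred p]
    (hY : ∀ (s : P) (a : α), p a → p (s • a)) (hfix : ∀ a, p a → ∃ s : P, s • a ≠ a) :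
    Even (Finset.univ.filter p).card := by
  let Y' : SubMulAction P α := ⟨{a | p a}, fun s a ha => hY s a ha⟩
  by_contra hodd
  have hc : Nat.card ↥Y' = (Finset.univ.filter p).card := by
    rw [← Fintype.card_subtype p, ← Nat.card_eq_fintype_card]
    rfl
  have h2 : ¬ 2 ∣ Nat.card ↥Y' := by
    rw [hc]
    rwa [even_iff_two_dvd] at hodd
  have : Fact (Nat.Prime 2) := ⟨Nat.prime_two⟩
  obtain ⟨a, ha⟩ := hP.nonempty_fixed_point_of_prime_not_dvd_card ↥Y' h2
  obtain ⟨s, hs⟩ := hfix a.1 a.2
  apply hs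
  have := ha s
  exact congrArg Subtype.val this

theorem hom_of_index_two {G : Type*} [Group G] (S T : Subgroup G)
    (hT : (T.subgroupOf S).index = 2) :
    ∃ ϕ : ↥S →* ℤˣ, (∀ s : ↥S, (s : G) ∈ T → ϕ s = 1) ∧ (∀ s : ↥S, (s : G) ∉ T → ϕ s = -1) := by
  classical
  refine ⟨MonoidHom.mk' (fun s => if (s : G) ∈ T then 1 else -1) ?_, ?_, ?_⟩
  · intro a b
    have h := Subgroup.mul_mem_iff_of_index_two hT (a := a) (b := b)
    simp only [Subgroup.mem_subgroupOf, Subgroup.coe_mul] at h
    by_cases ha : (a : G) ∈ T <;> by_cases hb : (b : G) ∈ T <;> simp [h, ha, hb]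
  · intro s hs; simp [hs]
  · intro s hs; simp [hs]

theorem index_ker_of_neg_one {G : Type*} [Group G] (V : G →* ℤˣ) (x : G) (hx : V x = -1) :
    V.ker.index = 2 := by
  rw [Subgroup.index_ker]
  have hcard : Nat.card ℤˣ = 2 := by simp
  have hdvd : Nat.card V.range ∣ 2 := by
    have h0 := Subgroup.card_subgroup_dvd_card V.range
    rwa [hcard] at h0
  have hne1 : Nat.card V.range ≠ 1 := by
    intro h1
    rw [Subgroup.card_eq_one] at h1
    have : V x ∈ V.range := ⟨x, rfl⟩
    rw [h1, Subgroup.mem_bot, hx] at this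
    exact absurd this (by decide)
  rcases (Nat.dvd_prime Nat.prime_two).mp hdvd with h | h
  · exact absurd h hne1
  · exact h

theorem odd_order_mem_ker {G : Type*} [Group G] (V : G →* ℤˣ) (g : G)
    (hg : Nat.Coprime (orderOf g) 2) : V g = 1 := by
  have h1 : (V g) ^ (orderOf g) = 1 := by rw [← map_pow, pow_orderOf_eq_one, map_one]
  have h2 : (V g) ^ 2 = 1 := Int.units_sq (V g)
  have h3 := pow_gcd_eq_one.mpr ⟨h1, h2⟩
  rw [Nat.Coprime] at hg
  rwa [hg, pow_one] at h3

end Cfsg.Agent.Lib.Helper5.TransferInv
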